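import Groth.Agent.H8Lim.UniversallyOpen
import Groth.Prelude.Def_EGA43

/-!
# Universal openness at a point is tested on affine spaces
-/

set_option backward.isDefEq.respectTransparency.types false
set_option autoImplicit false

universe u

open CategoryTheory Limits AlgebraicGeometry TensorProduct Topology

namespace Groth.Agent.EGA43.UnivOpen

open Groth.Agent

/-- Openness of the base changes to affine spaces at the points over `x` gives universal openness
at `x`. -/
theorem isUnivOpenAt_of_affineSpace {X Y : Scheme.{u}} (f : X ⟶ Y) (x : X)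
    (h : ∀ (n : ℕ) (z : ↥(pullback f (AffineSpace (ULift.{u} (Fin n)) Y ↘ Y))),
      pullback.fst f _ z = x →
        EGA43.IsOpenAt (pullback.snd f (AffineSpace (ULift.{u} (Fin n)) Y ↘ Y)).base z) :
    EGA43.IsUnivOpenAt f x := by
  intro Y' i₂ p hpx W₀ hW₀
  obtain ⟨W, hWW₀, hW, hpW⟩ := mem_nhds_iff.1 hW₀
  refine Filter.mem_of_superset ?_ (Set.image_mono hWW₀)
  rw [mem_nhds_iff]
  have hco : f (pullback.fst f i₂ p) = i₂ (pullback.snd f i₂ p) := by
    rw [← Scheme.Hom.comp_apply, pullback.condition, Scheme.Hom.comp_apply]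
  obtain ⟨_, ⟨U, hU, rfl⟩, hpU, -⟩ :=
    Y.isBasis_affineOpens.exists_subset_of_mem_open (Set.mem_univ (f (pullback.fst f i₂ p)))
      isOpen_univ
  obtain ⟨_, ⟨T, hT, rfl⟩, hpT, hTU⟩ :=
    X.isBasis_affineOpens.exists_subset_of_mem_open (show pullback.fst f i₂ p ∈ f ⁻¹ᵁ U from hpU)
      (f ⁻¹ᵁ U).isOpen
  obtain ⟨_, ⟨V, hV, rfl⟩, hpV, hVU⟩ :=
    Y'.isBasis_affineOpens.exists_subset_of_mem_open
      (show pullback.snd f i₂ p ∈ i₂ ⁻¹ᵁ U by change i₂ _ ∈ U; rw [← hco]; exact hpU)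
      (i₂ ⁻¹ᵁ U).isOpen
  have : IsAffine (Scheme.Opens.toScheme U) := hU
  have : IsAffine (Scheme.Opens.toScheme T) := hT
  have : IsAffine (Scheme.Opens.toScheme V) := hV
  let fU : (Scheme.Opens.toScheme T) ⟶ (Scheme.Opens.toScheme U) := f.resLE U T hTU
  let gU : (Scheme.Opens.toScheme V) ⟶ (Scheme.Opens.toScheme U) := i₂.resLE U V hVU
  let fT : (Scheme.Opens.toScheme T) ⟶ Y := (Scheme.Opens.ι T) ≫ f
  let gV : (Scheme.Opens.toScheme V) ⟶ Y := (Scheme.Opens.ι V) ≫ i₂
  let P := pullback fT gV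
  have hP : IsPullback (pullback.fst fT gV) (pullback.snd fT gV) fU gU := by
    refine H8Lim.isPullback_of_comp_mono fU gU (Scheme.Opens.ι U) ?_
    simpa [fU, gU, fT, gV] using IsPullback.of_hasPullback fT gV
  have : IsAffine P := IsAffine.of_isPullback hP
  let m : P ⟶ pullback f i₂ :=
    pullback.map fT gV f i₂ (Scheme.Opens.ι T) (Scheme.Opens.ι V) (𝟙 Y) (Category.comp_id _) (Category.comp_id _)
  obtain ⟨q, hq⟩ : p ∈ Set.range m := by
    rw [Scheme.Pullback.range_map, Scheme.Opens.range_ι, Scheme.Opens.range_ι]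
    exact ⟨hpT, hpV⟩
  obtain ⟨_, ⟨_, ⟨s, rfl⟩, rfl⟩, hqs, hsW⟩ := (isBasis_basicOpen P).exists_subset_of_mem_open
    (show q ∈ m ⁻¹' W from (hq.symm ▸ hpW : m q ∈ W)) (hW.preimage m.continuous)
  obtain ⟨n, hn, b, c, hs⟩ := H8Lim.exists_sum_mul_of_isPushout (isPushout_appTop_of_isPullback hP) s
  -- the morphism to affine space given by the coefficients
  let h' : (Scheme.Opens.toScheme V) ⟶ AffineSpace (ULift.{u} (Fin n)) Y :=
    AffineSpace.homOfVector gV fun i ↦ c i.down
  let t := AffineSpace (ULift.{u} (Fin n)) Y ↘ Y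
  let κ : P ⟶ pullback fT t := pullback.map fT gV fT t (𝟙 _) h' (𝟙 Y) (by simp)
    (by simp [h', t])
  have hκ : IsPullback κ (pullback.snd fT gV) (pullback.snd fT t) h' := by
    have key : IsPullback (κ ≫ pullback.fst fT t) (pullback.snd fT gV) fT (h' ≫ t) := by
      have e₁ : κ ≫ pullback.fst fT t = pullback.fst fT gV :=
        (pullback.lift_fst _ _ _).trans (Category.comp_id _)
      have e₂ : h' ≫ t = gV := AffineSpace.homOfVector_over _ _
      rw [e₁, e₂]
      exact IsPullback.of_hasPullback fT gV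
    exact IsPullback.of_right key (pullback.lift_snd _ _ _)
      (IsPullback.of_hasPullback fT t)
  -- the open subset at the finite level
  let s₀ : Γ(pullback fT t, ⊤) := ∑ i, (pullback.fst fT t).appTop.hom (b i) *
    (pullback.snd fT t).appTop.hom (AffineSpace.coord Y ⟨i⟩)
  have hκs : κ.appTop.hom s₀ = s := by
    rw [hs, map_sum]
    refine Finset.sum_congr rfl fun i _ ↦ ?_
    rw [map_mul, ← CommRingCat.comp_apply, ← CommRingCat.comp_apply,
      ← Scheme.Hom.comp_appTop, ← Scheme.Hom.comp_appTop, pullback.lift_fst, pullback.lift_snd,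
      Category.comp_id, Scheme.Hom.comp_appTop, CommRingCat.comp_apply]
    congr 2
    exact AffineSpace.homOfVector_appTop_coord _ _ _
  let m₀ : pullback fT t ⟶ pullback f t :=
    pullback.map fT t f t (Scheme.Opens.ι T) (𝟙 _) (𝟙 Y) (Category.comp_id _) (by simp)
  have e : pullback.snd fT t = m₀ ≫ pullback.snd f t :=
    ((pullback.lift_snd _ _ _).trans (Category.comp_id _)).symm
  have hz : pullback.fst f t (m₀ (κ q)) = x := by
    rw [← Scheme.Hom.comp_apply, pullback.lift_fst, Scheme.Hom.comp_apply, ← Scheme.Hom.comp_apply κ]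
    rw [show κ ≫ pullback.fst fT t = pullback.fst fT gV from
      (pullback.lift_fst _ _ _).trans (Category.comp_id _), ← Scheme.Hom.comp_apply]
    rw [show pullback.fst fT gV ≫ Scheme.Opens.ι T = m ≫ pullback.fst f i₂ from
      (pullback.lift_fst _ _ _).symm, Scheme.Hom.comp_apply, hq]
    exact hpx
  have hs₀ : κ q ∈ (pullback fT t).basicOpen s₀ := by
    have : q ∈ κ ⁻¹ᵁ (pullback fT t).basicOpen s₀ := by
      rw [Scheme.preimage_basicOpen_top, hκs]; exact hqs
    exact this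
  have hnhd := h n _ hz (m₀ '' ((pullback fT t).basicOpen s₀))
    ((m₀.isOpenEmbedding.isOpenMap _ ((pullback fT t).basicOpen s₀).isOpen).mem_nhds ⟨_, hs₀, rfl⟩)
  rw [← Set.image_comp] at hnhd
  obtain ⟨O, hOsub, hO, hzO⟩ := mem_nhds_iff.1 hnhd
  refine ⟨(Scheme.Opens.ι V) '' (h' ⁻¹' O), ?_,
    (Scheme.Opens.ι V).isOpenEmbedding.isOpenMap _ (hO.preimage h'.continuous), ?_⟩
  · rintro _ ⟨w, hw, rfl⟩
    have hw' : w ∈ h' ⁻¹' (pullback.snd fT t '' ((pullback fT t).basicOpen s₀)) := by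
      obtain ⟨v, hv, hv'⟩ := hOsub hw
      exact ⟨v, hv, by rw [e]; exact hv'⟩
    rw [← Scheme.image_preimage_eq_of_isPullback hκ] at hw'
    obtain ⟨z, hz', rfl⟩ := hw'
    refine ⟨m z, hsW ?_, ?_⟩
    · have : z ∈ κ ⁻¹ᵁ (pullback fT t).basicOpen s₀ := hz'
      rwa [Scheme.preimage_basicOpen_top, hκs] at this
    · show (m ≫ pullback.snd f i₂) z = (pullback.snd fT gV ≫ Scheme.Opens.ι V) z
      rw [pullback.lift_snd]
  · refine ⟨pullback.snd fT gV q, ?_, ?_⟩
    · show h' (pullback.snd fT gV q) ∈ O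
      rw [← Scheme.Hom.comp_apply, ← hκ.w, Scheme.Hom.comp_apply, e, Scheme.Hom.comp_apply]
      exact hzO
    · show (pullback.snd fT gV ≫ Scheme.Opens.ι V) q = _
      rw [show pullback.snd fT gV ≫ Scheme.Opens.ι V = m ≫ pullback.snd f i₂ from
        (pullback.lift_snd _ _ _).symm, Scheme.Hom.comp_apply, hq]

end Groth.Agent.EGA43.UnivOpen
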