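import Groth.Agent.EGA43.UnivOpen.Dvr
import Groth.Agent.EGA43.Chevalley.Specialize

/-!
# EGA IV 14.4.4, 14.4.8: universal openness by components over discrete valuation rings
-/

set_option autoImplicit false
set_option backward.isDefEq.respectTransparency false
set_option linter.style.haveILetI false

universe u

open CategoryTheory Limits AlgebraicGeometry

namespace Groth.Agent.EGA43.UnivOpen

open Groth.Agent

variable {X Y : Scheme.{u}} (f : X ⟶ Y) [IsLocallyNoetherian Y] [LocallyOfFiniteType f]

theorem eq_genericPoint_of_ne_closedPoint {A : Type u} [CommRing A] [IsDomain A]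
    [IsDiscreteValuationRing A] (a : Spec (CommRingCat.of A)) (ha : a ≠ IsLocalRing.closedPoint A) :
    a = genericPoint (Spec (CommRingCat.of A)) := by
  rw [show genericPoint (Spec (CommRingCat.of A)) = (⟨⊥, Ideal.isPrime_bot⟩ : PrimeSpectrum A) from
    genericPoint_eq_bot_of_affine (CommRingCat.of A)]
  apply PrimeSpectrum.ext
  by_contra hb
  exact ha (PrimeSpectrum.ext (IsLocalRing.eq_maximalIdeal (a.isPrime.isMaximal hb)))

theorem genericPoint_ne_closedPoint {A : Type u} [CommRing A] [IsDomain A]
    [IsDiscreteValuationRing A] :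
    genericPoint (Spec (CommRingCat.of A)) ≠ IsLocalRing.closedPoint A := by
  rw [show genericPoint (Spec (CommRingCat.of A)) = (⟨⊥, Ideal.isPrime_bot⟩ : PrimeSpectrum A) from
    genericPoint_eq_bot_of_affine (CommRingCat.of A)]
  exact fun h => IsDiscreteValuationRing.not_a_field A (congrArg PrimeSpectrum.asIdeal h).symm

/-- Universal openness along a fibre by dominance of components over discrete valuation rings. -/
theorem forall_isUnivOpenAt_fibre_iff (y : Y) :
    (∀ x : X, f x = y → EGA43.IsUnivOpenAt f x) ↔
      ∀ (A : Type u) [CommRing A] [IsDomain A] [IsDiscreteValuationRing A]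
        (g : Spec (CommRingCat.of A) ⟶ Y), g (IsLocalRing.closedPoint A) = y →
        ∀ Z ∈ irreducibleComponents (↥(pullback f g) : Type u),
          Dense ((pullback.snd f g).base '' Z) := by
  constructor
  · intro h A _ _ _ g hg Z hZ
    have hZirr : IsIrreducible Z := hZ.1
    have hZc : IsClosed Z := isClosed_of_mem_irreducibleComponents Z hZ
    let ζ := hZirr.genericPoint
    have hζ : IsGenericPoint ζ Z := by
      simpa [hZc.closure_eq] using hZirr.isGenericPoint_genericPoint_closure
    suffices hs : pullback.snd f g ζ = genericPoint (Spec (CommRingCat.of A)) by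
      intro a
      have hsub : ({genericPoint (Spec (CommRingCat.of A))} : Set ↥(Spec (CommRingCat.of A))) ⊆
          (pullback.snd f g).base '' Z := Set.singleton_subset_iff.2 ⟨ζ, hζ.mem, hs⟩
      exact closure_mono hsub (specializes_iff_mem_closure.1 (genericPoint_specializes a))
    refine eq_genericPoint_of_ne_closedPoint _ fun hc => ?_
    have hfx : f (pullback.fst f g ζ) = y := by
      rw [← Scheme.Hom.comp_apply, pullback.condition, Scheme.Hom.comp_apply, hc, hg]
    obtain ⟨z', hz', hne⟩ := (isUnivOpenAt_iff_dvr f _).1 (h _ hfx) A g (hg.trans hfx.symm) ζ rfl hc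
    have hz'Z : z' ∈ Z := by
      have hle : Z ⊆ closure {z'} := by
        rw [← hζ.def]
        exact closure_minimal (Set.singleton_subset_iff.2 (specializes_iff_mem_closure.1 hz'))
          isClosed_closure
      exact hZ.2 isIrreducible_singleton.closure hle (subset_closure rfl)
    exact hne (((hz'.antisymm (hζ.specializes hz'Z)).eq ▸ hc))
  · intro h x hx
    refine (isUnivOpenAt_iff_dvr f x).2 fun A _ _ _ g hg x' hx' hs => ?_
    obtain ⟨Z, hZ, hxZ⟩ : ∃ Z ∈ irreducibleComponents (↥(pullback f g) : Type u), x' ∈ Z :=
      ⟨irreducibleComponent x', irreducibleComponent_mem_irreducibleComponents x',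
        mem_irreducibleComponent⟩
    have hZc : IsClosed Z := isClosed_of_mem_irreducibleComponents Z hZ
    let ζ := hZ.1.genericPoint
    have hζ : IsGenericPoint ζ Z := by
      simpa [hZc.closure_eq] using hZ.1.isGenericPoint_genericPoint_closure
    refine ⟨ζ, hζ.specializes hxZ, fun hc => genericPoint_ne_closedPoint (A := A) ?_⟩
    have hsub : (pullback.snd f g).base '' Z ⊆ closure {IsLocalRing.closedPoint A} := by
      rintro _ ⟨a, ha, rfl⟩
      exact hc ▸ specializes_iff_mem_closure.1 ((hζ.specializes ha).map (pullback.snd f g).continuous)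
    have h1 := closure_minimal hsub isClosed_closure
      ((h A g (hg.trans hx) Z hZ) (genericPoint (Spec (CommRingCat.of A))))
    rw [(IsLocalRing.isClosed_singleton_closedPoint (R := A)).closure_eq] at h1
    exact h1

/-- EGA IV 14.4.4. -/
theorem universallyOpen_iff_dvr_components :
    UniversallyOpen f ↔
      ∀ (A : Type u) [CommRing A] [IsDomain A] [IsDiscreteValuationRing A]
        (g : Spec (CommRingCat.of A) ⟶ Y), ∀ Z ∈ irreducibleComponents (↥(pullback f g) : Type u),
          Dense ((pullback.snd f g).base '' Z) := by
  constructor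
  · intro h A _ _ _ g
    refine (forall_isUnivOpenAt_fibre_iff f _).1 (fun x _ Y' g x' _ => ?_) A g rfl
    exact fun N hN => (pullback.snd f g).isOpenMap.image_mem_nhds hN
  · intro h
    exact Chevalley.universallyOpen_of_forall f fun x =>
      (forall_isUnivOpenAt_fibre_iff f (f x)).2 (fun A _ _ _ g _ => h A g) x rfl

end Groth.Agent.EGA43.UnivOpen
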