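import Groth.Agent.EGA43.UnivOpen.AffineSpace
import Groth.Agent.EGA43.OpenAt
import Groth.Agent.H8ProCons.Image
import Groth.Agent.ValExtLib.Scheme

/-!
# EGA IV 14.4: universal openness at a point is tested by discrete valuation rings
-/

set_option autoImplicit false
set_option backward.isDefEq.respectTransparency false
set_option linter.style.haveILetI false

universe u

open CategoryTheory Limits AlgebraicGeometry

namespace Groth.Agent.EGA43.UnivOpen

open Groth.Agent

variable {X Y : Scheme.{u}} (f : X ⟶ Y)

/-- Generizations lift at a point where the morphism is universally open. -/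
theorem exists_generization_of_isUnivOpenAt {x : X} (h : EGA43.IsUnivOpenAt f x) {Y' : Scheme.{u}}
    (g : Y' ⟶ Y) {x' : ↥(pullback f g)} (hx' : pullback.fst f g x' = x) {y' : Y'}
    (hy' : y' ⤳ pullback.snd f g x') : ∃ z' : ↥(pullback f g), z' ⤳ x' ∧ pullback.snd f g z' = y' :=
  H8ProCons.exists_generization_of_isOpenAt _ (h Y' g x' hx') hy'

/-- Universal openness at a point follows from lifting of generizations in the base changes to
affine spaces. -/
theorem isUnivOpenAt_of_lifting [IsLocallyNoetherian Y] [LocallyOfFiniteType f] (x : X)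
    (h : ∀ (n : ℕ) (z : ↥(pullback f (AffineSpace (ULift.{u} (Fin n)) Y ↘ Y))),
      pullback.fst f _ z = x → ∀ v, v ⤳ pullback.snd f (AffineSpace (ULift.{u} (Fin n)) Y ↘ Y) z →
        ∃ z', z' ⤳ z ∧ pullback.snd f (AffineSpace (ULift.{u} (Fin n)) Y ↘ Y) z' = v) :
    EGA43.IsUnivOpenAt f x := by
  refine isUnivOpenAt_of_affineSpace f x fun n z hz => ?_
  haveI : IsLocallyNoetherian (AffineSpace (ULift.{u} (Fin n)) Y) :=
    LocallyOfFiniteType.isLocallyNoetherian (AffineSpace (ULift.{u} (Fin n)) Y ↘ Y)
  exact H8ProCons.isOpenAt_of_generizations _ (h n z hz)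

/-- The criterion by discrete valuation rings. -/
theorem isUnivOpenAt_iff_dvr [IsLocallyNoetherian Y] [LocallyOfFiniteType f] (x : X) :
    EGA43.IsUnivOpenAt f x ↔
      ∀ (A : Type u) [CommRing A] [IsDomain A] [IsDiscreteValuationRing A]
        (g : Spec (CommRingCat.of A) ⟶ Y), g (IsLocalRing.closedPoint A) = f x →
        ∀ x' : ↥(pullback f g), pullback.fst f g x' = x →
          pullback.snd f g x' = IsLocalRing.closedPoint A →
          ∃ z' : ↥(pullback f g), z' ⤳ x' ∧ pullback.snd f g z' ≠ IsLocalRing.closedPoint A := by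
  constructor
  · intro h A _ _ _ g _ x' hx' hs
    obtain ⟨z', hz', he⟩ := exists_generization_of_isUnivOpenAt f h g hx'
      (genericPoint_specializes (pullback.snd f g x'))
    refine ⟨z', hz', ?_⟩
    rw [he]
    intro hc
    refine IsDiscreteValuationRing.not_a_field A ?_
    have h1 : genericPoint (Spec (CommRingCat.of A)) = (⟨⊥, Ideal.isPrime_bot⟩ : PrimeSpectrum A) :=
      genericPoint_eq_bot_of_affine (CommRingCat.of A)
    rw [h1] at hc
    exact (congrArg PrimeSpectrum.asIdeal hc).symm
  · intro H
    refine isUnivOpenAt_of_lifting f x fun n z hz v hv => ?_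
    let t := AffineSpace (ULift.{u} (Fin n)) Y ↘ Y
    by_cases hne : v = pullback.snd f t z
    · exact ⟨z, specializes_rfl, hne.symm⟩
    haveI : IsLocallyNoetherian (AffineSpace (ULift.{u} (Fin n)) Y) :=
      LocallyOfFiniteType.isLocallyNoetherian t
    obtain ⟨V, h, hV, hc, hgen⟩ :=
      ValExtLib.exists_dvr_valuationSubring (𝟙 _) v (y' := pullback.snd f t z) hv (fun e => hne e.symm)
    let g : Spec (CommRingCat.of V) ⟶ Y := h ≫ t
    obtain ⟨w, hw1, hw2⟩ := Scheme.Pullback.exists_preimage_pullback
      (f := pullback.snd f t) (g := h) z (IsLocalRing.closedPoint V) hc.symm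
    have sq := (IsPullback.of_hasPullback (pullback.snd f t) h).paste_horiz (IsPullback.of_hasPullback f t)
    let j : pullback (pullback.snd f t) h ⟶ pullback f g := sq.isoPullback.hom
    have hgc : g (IsLocalRing.closedPoint V) = f x := by
      show t (h (IsLocalRing.closedPoint V)) = f x
      rw [hc, ← Scheme.Hom.comp_apply, ← pullback.condition, Scheme.Hom.comp_apply, hz]
    obtain ⟨z', hz', hne'⟩ := H V g hgc (j w)
      (by rw [← Scheme.Hom.comp_apply, sq.isoPullback_hom_fst, Scheme.Hom.comp_apply, hw1, hz])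
      (by rw [← Scheme.Hom.comp_apply, sq.isoPullback_hom_snd, hw2])
    obtain ⟨w', rfl⟩ : z' ∈ Set.range j := j.homeomorph.surjective z'
    have hw' : w' ⤳ w := j.isOpenEmbedding.isInducing.specializes_iff.1 hz'
    rw [← Scheme.Hom.comp_apply, sq.isoPullback_hom_snd] at hne'
    refine ⟨pullback.fst (pullback.snd f t) h w', hw1 ▸ hw'.map (pullback.fst (pullback.snd f t) h).continuous, ?_⟩
    rw [← Scheme.Hom.comp_apply, pullback.condition, Scheme.Hom.comp_apply]
    -- the only point other than the closed one is the generic one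
    have hg : pullback.snd (pullback.snd f t) h w' = genericPoint (Spec (CommRingCat.of V)) := by
      have h1 : genericPoint (Spec (CommRingCat.of V)) = (⟨⊥, Ideal.isPrime_bot⟩ : PrimeSpectrum V) :=
        genericPoint_eq_bot_of_affine (CommRingCat.of V)
      rw [h1]
      apply PrimeSpectrum.ext
      by_contra hb
      exact hne' (PrimeSpectrum.ext (IsLocalRing.eq_maximalIdeal
        ((pullback.snd (pullback.snd f t) h w').isPrime.isMaximal hb)))
    rw [hg]
    have h2 := congrArg (fun k : Spec ((AffineSpace (ULift.{u} (Fin n)) Y).residueField v) ⟶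
      AffineSpace (ULift.{u} (Fin n)) Y => k (IsLocalRing.closedPoint _)) hgen
    simp only [Category.comp_id, Scheme.Hom.comp_apply, Scheme.fromSpecResidueField_apply] at h2
    convert h2 using 2
    have h3 : genericPoint (Spec (CommRingCat.of V)) = (⟨⊥, Ideal.isPrime_bot⟩ : PrimeSpectrum V) :=
      genericPoint_eq_bot_of_affine (CommRingCat.of V)
    rw [h3]
    apply PrimeSpectrum.ext
    show (⊥ : Ideal V) = (IsLocalRing.maximalIdeal _).comap V.subtype
    rw [IsLocalRing.maximalIdeal_eq_bot, ← RingHom.ker_eq_comap_bot,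
      (RingHom.injective_iff_ker_eq_bot _).1 Subtype.val_injective]

end Groth.Agent.EGA43.UnivOpen
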